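import Mathlib
import Cfsg.Agent.S0028
import Cfsg.Agent.StdSz.FormAlg
set_option linter.all false

/-!
# The environment of a standard subgroup of type `Sz(q)`

`Env` records: a Sylow 2-subgroup `P = {p a b}` of the standard subgroup `A`, the involution `t`
centralizing `A`, and a subgroup `D` of odd order (torus of `A` times the core of `C_A(t)`),
inducing on `P` the maps `p a b ↦ p (l a) (l^(1+θ) b)`.
-/

set_option autoImplicit false
set_option linter.unusedSectionVars false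
set_option linter.dupNamespace false

namespace Cfsg.Agent.StdSz.Env

open Subgroup Cfsg.Agent.StdSz.FormAlg

section General

variable {G : Type*} [Group G]

/-- An element of finite order is the product of a power of odd order and a power of 2-power
order. -/
theorem exists_decomp [Finite G] (c : G) : ∃ i j : ℕ, c = c ^ i * c ^ j ∧ Odd (orderOf (c ^ i)) ∧
    ∃ k : ℕ, (c ^ j) ^ 2 ^ k = 1 := by
  have h0 : orderOf c ≠ 0 := (orderOf_pos c).ne'
  obtain ⟨k, r, hr, hk⟩ := Nat.exists_eq_two_pow_mul_odd h0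
  have hcop : Nat.Coprime (2 ^ k) r := Nat.Coprime.pow_left _ (Nat.coprime_two_left.mpr hr)
  obtain ⟨i, hi1, hi2⟩ := Nat.chineseRemainder hcop 0 1
  obtain ⟨j, hj1, hj2⟩ := Nat.chineseRemainder hcop 1 0
  refine ⟨i, j, ?_, ?_, k, ?_⟩
  · rw [← _root_.pow_add]
    have h1 : i + j ≡ 1 [MOD orderOf c] := by
      rw [hk]
      rw [← Nat.modEq_and_modEq_iff_modEq_mul hcop]
      constructor
      · have := hi1.add hj1
        simpa using this
      · have := hi2.add hj2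
        simpa using this
    have h2 : c ^ (i + j) = c ^ 1 := pow_eq_pow_iff_modEq.mpr h1
    rw [h2, pow_one]
  · have h1 : (c ^ i) ^ r = 1 := by
      rw [← pow_mul, ← orderOf_dvd_iff_pow_eq_one, hk]
      exact Nat.mul_dvd_mul (Nat.modEq_zero_iff_dvd.mp hi1) dvd_rfl
    exact Odd.of_dvd_nat hr (orderOf_dvd_of_pow_eq_one h1)
  · rw [← pow_mul, ← orderOf_dvd_iff_pow_eq_one, hk, mul_comm j]
    exact Nat.mul_dvd_mul dvd_rfl (Nat.modEq_zero_iff_dvd.mp hj2)

end General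

/-- `g` induces on the elements `p a b` the map of the torus element `l`. -/
def Acts {G : Type*} [Group G] {F : Type*} [Field F] (m : ℕ) (p : F → F → G) (g : G) (l : Fˣ) :
    Prop :=
  ∀ a b, g * p a b * g⁻¹ = p (l * a) ((l : F) ^ (1 + 2 ^ (m + 1)) * b)

/-- The environment of a standard subgroup of type `Sz(q)`, `q = 2 ^ (2 m + 1)`. -/
structure Env (G : Type*) [Group G] (F : Type*) [Field F] [Fintype F] [CharP F 2] (m : ℕ) where
  hm : 1 ≤ m
  hF : Fintype.card F = 2 ^ (2 * m + 1)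
  p : F → F → G
  p_mul : ∀ a b c d, p a b * p c d = p (a + c) (b + d + a ^ (2 ^ (m + 1)) * c)
  p_inj : ∀ a b c d, p a b = p c d → a = c ∧ b = d
  t : G
  t_sq : t * t = 1
  t_p : ∀ a b, t * p a b = p a b * t
  t_not : ∀ a b, p a b ≠ t
  /-- the odd order group acting -/
  D : Subgroup G
  D_odd : Odd (Nat.card D)
  D_t : ∀ g ∈ D, g * t = t * g
  D_act : ∀ g ∈ D, ∃ l : Fˣ, Acts m p g l
  D_surj : ∀ l : Fˣ, ∃ g ∈ D, Acts m p g l
  /-- `P⟨t⟩` is a Sylow 2-subgroup of `C(t)` -/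
  T_max : ∀ X : Subgroup G, IsPGroup 2 X → (∀ a b, p a b ∈ X) → t ∈ X → (∀ x ∈ X, x * t = t * x) →
    ∀ x ∈ X, ∃ a b, x = p a b ∨ x = p a b * t
  odd_mem : ∀ y : G, Odd (orderOf y) → y * t = t * y → (∀ a b, y * p a b = p a b * y) → y ∈ D

namespace Env

variable {G : Type*} [Group G] {F : Type*} [Field F] [Fintype F] [CharP F 2] {m : ℕ}
variable (E : Env G F m)

theorem p_zero : E.p 0 0 = 1 := by
  have h := E.p_mul 0 0 0 0
  rw [zero_pow (by positivity), zero_mul, add_zero, add_zero] at h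
  exact mul_eq_left.mp h

theorem z_mul (b d : F) : E.p 0 b * E.p 0 d = E.p 0 (b + d) := by
  rw [E.p_mul, mul_zero, add_zero, add_zero]

theorem z_self (b : F) : E.p 0 b * E.p 0 b = 1 := by
  rw [z_mul, FormAlg.add_self, p_zero]

theorem z_inv (b : F) : (E.p 0 b)⁻¹ = E.p 0 b := by
  rw [inv_eq_iff_mul_eq_one, z_self]

theorem z_inj {b d : F} (h : E.p 0 b = E.p 0 d) : b = d := (E.p_inj _ _ _ _ h).2

theorem z_eq_one {b : F} (h : E.p 0 b = 1) : b = 0 := by
  rw [← E.p_zero] at h; exact E.z_inj h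

theorem z_mul_p (a b c : F) : E.p 0 c * E.p a b = E.p a (b + c) := by
  rw [E.p_mul, zero_pow (by positivity), zero_mul, add_zero, zero_add, add_comm]

theorem p_mul_z (a b c : F) : E.p a b * E.p 0 c = E.p a (b + c) := by
  rw [E.p_mul, mul_zero, add_zero, add_zero]

theorem z_comm (a b c : F) : E.p a b * E.p 0 c = E.p 0 c * E.p a b := by
  rw [p_mul_z, z_mul_p]

theorem p_sq (a b : F) : E.p a b * E.p a b = E.p 0 (a ^ (1 + 2 ^ (m + 1))) := by
  rw [E.p_mul, FormAlg.add_self, FormAlg.add_self, zero_add, _root_.pow_add a 1, pow_one,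
    mul_comm a]

theorem p_comm (a b c d : F) :
    E.p a b * E.p c d = E.p 0 (bt m a c) * (E.p c d * E.p a b) := by
  rw [E.p_mul, E.p_mul, z_mul_p]
  congr 1
  · rw [add_comm]
  · unfold bt
    have : d + b + c ^ 2 ^ (m + 1) * a + (a * c ^ 2 ^ (m + 1) + a ^ 2 ^ (m + 1) * c) =
        b + d + a ^ 2 ^ (m + 1) * c + (c ^ 2 ^ (m + 1) * a + c ^ 2 ^ (m + 1) * a) := by ring
    rw [this, FormAlg.add_self, add_zero]

theorem p_inv (a b : F) : (E.p a b)⁻¹ = E.p a (b + a ^ (1 + 2 ^ (m + 1))) := by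
  rw [inv_eq_iff_mul_eq_one, E.p_mul, FormAlg.add_self]
  have : b + (b + a ^ (1 + 2 ^ (m + 1))) + a ^ 2 ^ (m + 1) * a = 0 := by
    rw [_root_.pow_add a 1, pow_one, ← add_assoc, FormAlg.add_self, zero_add, mul_comm a,
      FormAlg.add_self]
  rw [this, p_zero]

theorem t_inv : E.t⁻¹ = E.t := by
  rw [inv_eq_iff_mul_eq_one, E.t_sq]

theorem t_ne_one : E.t ≠ 1 := by
  intro h
  apply E.t_not 0 0
  rw [E.p_zero, h]

theorem pt_ne (a b c d : F) : E.p a b * E.t ≠ E.p c d := by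
  intro h
  have h1 : E.t = (E.p a b)⁻¹ * E.p c d := by rw [← h]; group
  rw [p_inv, E.p_mul] at h1
  exact E.t_not _ _ h1.symm

theorem pt_sq (a b : F) :
    (E.p a b * E.t) * (E.p a b * E.t) = E.p 0 (a ^ (1 + 2 ^ (m + 1))) := by
  calc (E.p a b * E.t) * (E.p a b * E.t) = E.p a b * (E.t * E.p a b) * E.t := by group
    _ = (E.p a b * E.p a b) * (E.t * E.t) := by rw [E.t_p]; group
    _ = E.p 0 (a ^ (1 + 2 ^ (m + 1))) := by rw [E.t_sq, mul_one, p_sq]

/-- The subgroup `T = P × ⟨t⟩`. -/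
def T : Subgroup G where
  carrier := {x | ∃ a b, x = E.p a b ∨ x = E.p a b * E.t}
  mul_mem' := by
    rintro x y ⟨a, b, h | h⟩ ⟨c, d, h' | h'⟩
    · exact ⟨_, _, Or.inl (by rw [h, h', E.p_mul])⟩
    · exact ⟨_, _, Or.inr (by rw [h, h', ← mul_assoc, E.p_mul])⟩
    · refine ⟨a + c, b + d + a ^ (2 ^ (m + 1)) * c, Or.inr ?_⟩
      rw [h, h', mul_assoc, E.t_p, ← mul_assoc, E.p_mul]
    · refine ⟨a + c, b + d + a ^ (2 ^ (m + 1)) * c, Or.inl ?_⟩
      rw [h, h', mul_assoc, ← mul_assoc E.t, E.t_p, mul_assoc (E.p c d), E.t_sq, mul_one, E.p_mul]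
  one_mem' := ⟨0, 0, Or.inl E.p_zero.symm⟩
  inv_mem' := by
    rintro x ⟨a, b, h | h⟩
    · exact ⟨_, _, Or.inl (by rw [h, E.p_inv])⟩
    · refine ⟨a, b + a ^ (1 + 2 ^ (m + 1)), Or.inr ?_⟩
      rw [h, mul_inv_rev, E.t_inv, E.p_inv, E.t_p]

theorem mem_T {x : G} : x ∈ E.T ↔ ∃ a b, x = E.p a b ∨ x = E.p a b * E.t := Iff.rfl

theorem p_mem_T (a b : F) : E.p a b ∈ E.T := ⟨a, b, Or.inl rfl⟩

theorem t_mem_T : E.t ∈ E.T := ⟨0, 0, Or.inr (by rw [E.p_zero, one_mul])⟩

theorem T_comm_t {x : G} (hx : x ∈ E.T) : x * E.t = E.t * x := by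
  obtain ⟨a, b, rfl | rfl⟩ := hx
  · exact (E.t_p a b).symm
  · rw [← mul_assoc, E.t_p]

theorem T_comm_z {x : G} (hx : x ∈ E.T) (c : F) : x * E.p 0 c = E.p 0 c * x := by
  obtain ⟨a, b, rfl | rfl⟩ := hx
  · exact E.z_comm a b c
  · rw [mul_assoc, E.t_p, ← mul_assoc, E.z_comm, mul_assoc]

theorem T_pow_four {x : G} (hx : x ∈ E.T) : x ^ 4 = 1 := by
  have h : x ^ 4 = (x * x) * (x * x) := by
    simp only [pow_succ, pow_zero, one_mul, mul_assoc]
  rw [h]
  obtain ⟨a, b, rfl | rfl⟩ := hx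
  · rw [p_sq, z_self]
  · rw [pt_sq, z_self]

theorem T_two : IsPGroup 2 E.T := by
  intro x
  exact ⟨2, Subtype.ext (E.T_pow_four x.2)⟩

theorem eq_of_mem_T {x : G} (hx : x ∈ E.T) (h : x * x = 1) :
    ∃ b, x = E.p 0 b ∨ x = E.p 0 b * E.t := by
  obtain ⟨a, b, rfl | rfl⟩ := hx
  · rw [p_sq] at h
    have := E.z_eq_one h
    rw [pow_eq_zero_iff (by positivity)] at this
    subst this
    exact ⟨b, Or.inl rfl⟩
  · rw [pt_sq] at h
    have := E.z_eq_one h
    rw [pow_eq_zero_iff (by positivity)] at this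
    subst this
    exact ⟨b, Or.inr rfl⟩

variable [Finite G]

/-- A 2-element commuting with `t` and normalizing `T` lies in `T`. -/
theorem mem_T_of_two {c : G} {k : ℕ} (hc : c ^ 2 ^ k = 1) (hct : c * E.t = E.t * c)
    (hn : c ∈ normalizer (E.T : Set G)) : c ∈ E.T := by
  have hz : IsPGroup 2 (zpowers c) := by
    intro x
    obtain ⟨x, hx⟩ := x
    obtain ⟨i, rfl⟩ := mem_zpowers_iff.mp hx
    refine ⟨k, Subtype.ext ?_⟩
    show (c ^ i) ^ 2 ^ k = 1
    rw [← zpow_natCast, ← zpow_mul, mul_comm, zpow_mul, zpow_natCast, hc, one_zpow]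
  have h2 : IsPGroup 2 ↥(E.T ⊔ zpowers c) := by
    apply IsPGroup.to_sup_of_normal_left' E.T_two hz
    rw [zpowers_le]; exact hn
  have hcomm : ∀ x ∈ E.T ⊔ zpowers c, x * E.t = E.t * x := by
    have : E.T ⊔ zpowers c ≤ centralizer ({E.t} : Set G) := by
      rw [sup_le_iff, zpowers_le]
      refine ⟨fun x hx => ?_, ?_⟩
      · rw [mem_centralizer_singleton_iff]; exact E.T_comm_t hx
      · rw [mem_centralizer_singleton_iff]; exact hct
    intro x hx
    exact mem_centralizer_singleton_iff.mp (this hx)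
  exact E.T_max (E.T ⊔ zpowers c) h2 (fun a b => (le_sup_left : E.T ≤ _) (E.p_mem_T a b))
    ((le_sup_left : E.T ≤ _) E.t_mem_T) hcomm c ((le_sup_right : zpowers c ≤ _) (mem_zpowers c))

/-- An element of odd order commuting with `t` and the `p 0 b`, and normalizing `T`, centralizes
`T` (so lies in `D`). -/
theorem centralizes_of_odd {y : G} (ho : Odd (orderOf y)) (hyt : y * E.t = E.t * y)
    (hyz : ∀ b, y * E.p 0 b = E.p 0 b * y) (hn : y ∈ normalizer (E.T : Set G)) :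
    ∀ a b, y * E.p a b = E.p a b * y := by
  intro a b
  have h1 : y * E.p a b * y⁻¹ ∈ E.T := (mem_normalizer_iff.mp hn _).mp (E.p_mem_T a b)
  -- `y p y⁻¹ = p e`
  obtain ⟨e, he2, hye, hpe, hee⟩ : ∃ e, e * e = 1 ∧ y * e = e * y ∧ E.p a b * e = e * E.p a b ∧
      y * E.p a b * y⁻¹ = E.p a b * e := by
    have hsq : (y * E.p a b * y⁻¹) * (y * E.p a b * y⁻¹) = E.p 0 (a ^ (1 + 2 ^ (m + 1))) := by
      have : (y * E.p a b * y⁻¹) * (y * E.p a b * y⁻¹) = y * (E.p a b * E.p a b) * y⁻¹ := by group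
      rw [this, p_sq, hyz, mul_inv_cancel_right]
    obtain ⟨c, d, h | h⟩ := h1
    · rw [h, p_sq] at hsq
      have hc := norm_inj E.hF (E.z_inj hsq)
      subst hc
      refine ⟨E.p 0 (d + b), E.z_self _, hyz _, E.z_comm _ _ _, ?_⟩
      rw [h, p_mul_z]
      congr 1
      rw [add_comm d b, ← add_assoc, FormAlg.add_self, zero_add]
    · rw [h, pt_sq] at hsq
      have hc := norm_inj E.hF (E.z_inj hsq)
      subst hc
      refine ⟨E.p 0 (d + b) * E.t, ?_, ?_, ?_, ?_⟩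
      · rw [pt_sq, zero_pow (by positivity), p_zero]
      · rw [← mul_assoc, hyz, mul_assoc, hyt, mul_assoc]
      · rw [← mul_assoc, E.z_comm, mul_assoc, ← E.t_p, mul_assoc]
      · rw [h, ← mul_assoc, p_mul_z]
        congr 2
        rw [add_comm d b, ← add_assoc, FormAlg.add_self, zero_add]
  have h2 : ∀ k : ℕ, y ^ k * E.p a b * (y ^ k)⁻¹ = E.p a b * e ^ k := by
    intro k
    induction k with
    | zero => simp
    | succ k ih =>
      have hyk : y * e ^ k = e ^ k * y := (Commute.pow_right (show Commute y e from hye) k).eq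
      calc y ^ (k + 1) * E.p a b * (y ^ (k + 1))⁻¹
          = y * (y ^ k * E.p a b * (y ^ k)⁻¹) * y⁻¹ := by rw [pow_succ']; group
        _ = y * (E.p a b * e ^ k) * y⁻¹ := by rw [ih]
        _ = (y * E.p a b * y⁻¹) * (y * e ^ k * y⁻¹) := by group
        _ = E.p a b * e * e ^ k := by rw [hee, hyk, mul_inv_cancel_right]
        _ = E.p a b * e ^ (k + 1) := by rw [pow_succ', mul_assoc]
  have h3 := h2 (orderOf y)
  rw [pow_orderOf_eq_one, one_mul, inv_one, mul_one, left_eq_mul] at h3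
  obtain ⟨r, hr⟩ := ho
  have h4 : e = 1 := by
    rw [hr, pow_succ, pow_mul, pow_two, he2, one_pow, one_mul] at h3
    exact h3
  rw [h4, mul_one, mul_inv_eq_iff_eq_mul] at hee
  exact hee

/-- Elements commuting with `t` and `Z` and normalizing `T` are products of an element of `D`
centralizing `T` and an element of `T`. -/
theorem exists_mul_T {c : G} (hct : c * E.t = E.t * c) (hcz : ∀ b, c * E.p 0 b = E.p 0 b * c)
    (hn : c ∈ normalizer (E.T : Set G)) :
    ∃ y ∈ E.D, (∀ a b, y * E.p a b = E.p a b * y) ∧ (∃ i : ℕ, y = c ^ i) ∧ ∃ x ∈ E.T, c = y * x := by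
  obtain ⟨i, j, h, ho, k, hk⟩ := exists_decomp c
  have hpow : ∀ n : ℕ, c ^ n * E.t = E.t * c ^ n := fun n =>
    (Commute.pow_left (show Commute c E.t from hct) n).eq
  have hpowz : ∀ n : ℕ, ∀ b, c ^ n * E.p 0 b = E.p 0 b * c ^ n := fun n b =>
    (Commute.pow_left (show Commute c (E.p 0 b) from hcz b) n).eq
  have hyc := E.centralizes_of_odd ho (hpow i) (hpowz i) (pow_mem hn i)
  exact ⟨c ^ i, E.odd_mem _ ho (hpow i) hyc, hyc, ⟨i, rfl⟩, c ^ j,
    E.mem_T_of_two hk (hpow j) (pow_mem hn j), h⟩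

/-- For a 2-group `X ≥ T`, `C_X(t) = T`. -/
theorem mem_T_of_comm {X : Subgroup G} (hX : IsPGroup 2 X) (hTX : E.T ≤ X) {x : G} (hx : x ∈ X)
    (hxt : x * E.t = E.t * x) : x ∈ E.T := by
  refine E.T_max (X ⊓ centralizer ({E.t} : Set G)) (hX.to_le inf_le_left)
    (fun a b => ⟨hTX (E.p_mem_T a b), ?_⟩) ⟨hTX E.t_mem_T, ?_⟩ ?_ x ⟨hx, ?_⟩
  · show _ ∈ centralizer ({E.t} : Set G)
    rw [mem_centralizer_singleton_iff]; exact (E.t_p a b).symm
  · show _ ∈ centralizer ({E.t} : Set G)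
    rw [mem_centralizer_singleton_iff]
  · intro y hy
    exact mem_centralizer_singleton_iff.mp hy.2
  · show _ ∈ centralizer ({E.t} : Set G)
    rw [mem_centralizer_singleton_iff]; exact hxt

/-- An element of odd order centralizing `T` and normalizing a 2-group `X ≥ T` centralizes `X`. -/
theorem centralizes_of_le {X : Subgroup G} (hX : IsPGroup 2 X) (hTX : E.T ≤ X) {y : G}
    (ho : Odd (orderOf y)) (hyt : y * E.t = E.t * y) (hy : ∀ a b, y * E.p a b = E.p a b * y)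
    (hn : y ∈ normalizer (X : Set G)) : ∀ x ∈ X, y * x = x * y := by
  have : Fact (Nat.Prime 2) := ⟨Nat.prime_two⟩
  have h := Cfsg.Agent.S0028.result 2 (zpowers E.t) (zpowers y) X
    (by
      intro x
      obtain ⟨x, hx⟩ := x
      obtain ⟨i, rfl⟩ := mem_zpowers_iff.mp hx
      refine ⟨1, Subtype.ext ?_⟩
      show (E.t ^ i) ^ 2 ^ 1 = 1
      rw [← zpow_natCast, ← zpow_mul, mul_comm, zpow_mul, zpow_natCast, pow_one, pow_two, E.t_sq,
        one_zpow])
    (by rw [Nat.card_zpowers]; exact Nat.coprime_two_right.mpr ho) hX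
    (by
      rw [zpowers_le, mem_centralizer_iff]
      intro x hx
      obtain ⟨i, rfl⟩ := mem_zpowers_iff.mp hx
      exact (Commute.zpow_left (show Commute y E.t from hyt) i).eq)
    (by rw [zpowers_le]; exact le_normalizer (hTX E.t_mem_T))
    (by rw [zpowers_le]; exact hn)
    (by
      intro x hx
      have hxT : x ∈ E.T := E.mem_T_of_comm hX hTX hx.1
        ((mem_centralizer_iff.mp hx.2 E.t (mem_zpowers E.t)).symm)
      rw [mem_centralizer_iff]
      intro w hw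
      obtain ⟨i, rfl⟩ := mem_zpowers_iff.mp hw
      have hyx : Commute y x := by
        obtain ⟨a, b, rfl | rfl⟩ := hxT
        · exact hy a b
        · exact (show Commute y (E.p a b) from hy a b).mul_right hyt
      exact (hyx.zpow_left i).eq)
  intro x hx
  have h1 := h (mem_zpowers y)
  rw [mem_centralizer_iff] at h1
  exact (h1 x hx).symm

/-- the elements of odd order centralizing `T` and a 2-group `Q ≥ T` normalized by them are
exactly the elements of `D` acting trivially on `T` and normalizing `Q`. -/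
theorem odd_of_mem_D {g : G} (hg : g ∈ E.D) : Odd (orderOf g) :=
  Odd.of_dvd_nat E.D_odd (Subgroup.orderOf_dvd_natCard _ hg)

theorem acts_unique {g : G} {l l' : Fˣ} (h : Acts m E.p g l) (h' : Acts m E.p g l') : l = l' := by
  have h1 := (h 1 0).symm.trans (h' 1 0)
  have h2 := (E.p_inj _ _ _ _ h1).1
  rw [mul_one, mul_one] at h2
  exact Units.ext h2

theorem acts_mul {g g' : G} {l l' : Fˣ} (h : Acts m E.p g l) (h' : Acts m E.p g' l') :
    Acts m E.p (g * g') (l * l') := by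
  intro a b
  have : g * g' * E.p a b * (g * g')⁻¹ = g * (g' * E.p a b * g'⁻¹) * g⁻¹ := by group
  rw [this, h', h, Units.val_mul, mul_pow, mul_assoc, mul_assoc]

theorem acts_inv {g : G} {l : Fˣ} (h : Acts m E.p g l) : Acts m E.p g⁻¹ l⁻¹ := by
  intro a b
  have h1 := h ((l⁻¹ : Fˣ) * a) (((l⁻¹ : Fˣ) : F) ^ (1 + 2 ^ (m + 1)) * b)
  rw [← mul_assoc, ← mul_assoc, ← mul_pow, ← Units.val_mul, mul_inv_cancel, Units.val_one,
    one_pow, one_mul, one_mul] at h1
  rw [← h1]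
  group

theorem acts_one_iff {g : G} : Acts m E.p g 1 ↔ ∀ a b, g * E.p a b = E.p a b * g := by
  constructor
  · intro h a b
    have := h a b
    rw [Units.val_one, one_pow, one_mul, one_mul, mul_inv_eq_iff_eq_mul] at this
    exact this
  · intro h a b
    rw [Units.val_one, one_pow, one_mul, one_mul, h, mul_inv_cancel_right]

/-- Elements of `D` normalize `T`. -/
theorem D_le_normalizer : E.D ≤ normalizer (E.T : Set G) := by
  have key : ∀ g ∈ E.D, ∀ x ∈ E.T, g * x * g⁻¹ ∈ E.T := by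
    intro g hg x hx
    obtain ⟨l, hl⟩ := E.D_act g hg
    obtain ⟨a, b, rfl | rfl⟩ := hx
    · rw [hl]; exact E.p_mem_T _ _
    · have : g * (E.p a b * E.t) * g⁻¹ = (g * E.p a b * g⁻¹) * (g * E.t * g⁻¹) := by group
      rw [this, hl, E.D_t g hg, mul_inv_cancel_right]
      exact mul_mem (E.p_mem_T _ _) E.t_mem_T
  intro g hg
  rw [mem_normalizer_iff]
  intro x
  refine ⟨key g hg x, fun h => ?_⟩
  have := key g⁻¹ (inv_mem hg) _ h
  rw [inv_inv] at this
  have e : g⁻¹ * (g * x * g⁻¹) * g = x := by group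
  rwa [e] at this

/-- Surjectivity of the action of the elements of `D` normalizing `Q`. -/
def DFull (Q : Subgroup G) : Prop :=
  ∀ l : Fˣ, ∃ g ∈ E.D, g ∈ normalizer (Q : Set G) ∧ Acts m E.p g l

theorem dFull_T : E.DFull E.T := by
  intro l
  obtain ⟨g, hg, h⟩ := E.D_surj l
  exact ⟨g, hg, E.D_le_normalizer hg, h⟩

/-- the `D`-invariant Sylow 2-subgroups: if `N(Q) = (C(t) ∩ N(Q)) S` for a Sylow 2-subgroup `S` of
`N(Q)` and the 2-elements of `N(Q)` centralize `Z`, then the elements of `D` normalizing `Q` and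
`S` still induce all torus elements. -/
theorem dFull_of_sylow {Q S : Subgroup G} (hS : IsPGroup 2 S) (hTQ : E.T ≤ Q) (hQS : Q ≤ S)
    (hSN : S ≤ normalizer (Q : Set G))
    (hmax : ∀ X : Subgroup G, IsPGroup 2 X → X ≤ normalizer (Q : Set G) → S ≤ X → X = S)
    (hD : E.DFull Q)
    (hZ : ∀ g ∈ normalizer (Q : Set G), ∀ b, ∃ b', g * E.p 0 b * g⁻¹ = E.p 0 b')
    (hZ2 : ∀ g ∈ normalizer (Q : Set G), (∃ k : ℕ, g ^ 2 ^ k = 1) → ∀ b,
      g * E.p 0 b = E.p 0 b * g)
    (hfac : ∀ g ∈ normalizer (Q : Set G), ∃ c, c * E.t = E.t * c ∧ ∃ x ∈ S, g = c * x) :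
    ∀ l : Fˣ, ∃ g ∈ E.D, g ∈ normalizer (Q : Set G) ∧ g ∈ normalizer (S : Set G) ∧
      Acts m E.p g l := by
  classical
  have hQ : IsPGroup 2 Q := hS.to_le hQS
  have hSp : ∀ x ∈ S, ∃ k : ℕ, x ^ 2 ^ k = 1 := by
    intro x hx
    obtain ⟨k, hk⟩ := hS ⟨x, hx⟩
    exact ⟨k, congrArg Subtype.val hk⟩
  -- the group `Y` of elements of odd order centralizing `Q`
  let Y : Subgroup G := E.D ⊓ centralizer (Q : Set G)
  have hYmem : ∀ y : G, y ∈ Y ↔ Odd (orderOf y) ∧ y ∈ centralizer (Q : Set G) := by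
    intro y
    constructor
    · intro h
      exact ⟨E.odd_of_mem_D h.1, h.2⟩
    · rintro ⟨h1, h2⟩
      refine ⟨E.odd_mem y h1 ?_ ?_, h2⟩
      · exact (mem_centralizer_iff.mp h2 E.t (hTQ E.t_mem_T)).symm
      · intro a b
        exact (mem_centralizer_iff.mp h2 _ (hTQ (E.p_mem_T a b))).symm
  have hYN : ∀ g ∈ normalizer (Q : Set G), ∀ y ∈ Y, g * y * g⁻¹ ∈ Y := by
    intro g hg y hy
    rw [hYmem] at hy ⊢
    refine ⟨?_, ?_⟩
    · have : orderOf (g * y * g⁻¹) = orderOf y := (MulAut.conj g).orderOf_eq y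
      rw [this]; exact hy.1
    · rw [mem_centralizer_iff]
      intro x hx
      have h1 : g⁻¹ * x * g ∈ Q := by
        have := (mem_normalizer_iff.mp (inv_mem hg) x).mp hx
        rwa [inv_inv] at this
      have h2 := mem_centralizer_iff.mp hy.2 _ h1
      calc x * (g * y * g⁻¹) = g * ((g⁻¹ * x * g) * y) * g⁻¹ := by group
        _ = g * (y * (g⁻¹ * x * g)) * g⁻¹ := by rw [h2]
        _ = g * y * g⁻¹ * x := by group
  -- `N1 = N(Q) ∩ C(Z)`
  let N1 : Subgroup G :=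
    { carrier := {g | g ∈ normalizer (Q : Set G) ∧ ∀ b, g * E.p 0 b = E.p 0 b * g}
      mul_mem' := by
        rintro g g' ⟨h1, h2⟩ ⟨h3, h4⟩
        refine ⟨mul_mem h1 h3, fun b => ?_⟩
        rw [mul_assoc, h4, ← mul_assoc, h2, mul_assoc]
      one_mem' := ⟨one_mem _, fun b => by rw [one_mul, mul_one]⟩
      inv_mem' := by
        rintro g ⟨h1, h2⟩
        refine ⟨inv_mem h1, fun b => ?_⟩
        rw [inv_mul_eq_iff_eq_mul, ← mul_assoc, h2, mul_inv_cancel_right] }
  have hN1 : ∀ g, g ∈ N1 ↔ g ∈ normalizer (Q : Set G) ∧ ∀ b, g * E.p 0 b = E.p 0 b * g :=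
    fun g => Iff.rfl
  have hSN1 : S ≤ N1 := fun x hx => ⟨hSN hx, hZ2 x (hSN hx) (hSp x hx)⟩
  have hYN1 : Y ≤ N1 := by
    intro y hy
    refine ⟨centralizer_le_normalizer _ hy.2, fun b => ?_⟩
    exact (mem_centralizer_iff.mp hy.2 _ (hTQ (E.p_mem_T 0 b))).symm
  have hconjN1 : ∀ g ∈ normalizer (Q : Set G), ∀ x ∈ N1, g * x * g⁻¹ ∈ N1 := by
    intro g hg x hx
    refine ⟨mul_mem (mul_mem hg hx.1) (inv_mem hg), fun b => ?_⟩
    obtain ⟨b', hb'⟩ := hZ g⁻¹ (inv_mem hg) b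
    rw [inv_inv] at hb'
    have h1 := hx.2 b'
    calc g * x * g⁻¹ * E.p 0 b = g * (x * (g⁻¹ * E.p 0 b * g)) * g⁻¹ := by group
      _ = g * ((g⁻¹ * E.p 0 b * g) * x) * g⁻¹ := by rw [hb', h1]
      _ = E.p 0 b * (g * x * g⁻¹) := by group
  -- normalizer of `Q` normalizes `T` on the centralizer of `t`
  have hnT : ∀ c ∈ normalizer (Q : Set G), c * E.t = E.t * c → c ∈ normalizer (E.T : Set G) := by
    have key : ∀ c ∈ normalizer (Q : Set G), c * E.t = E.t * c → ∀ x ∈ E.T, c * x * c⁻¹ ∈ E.T := by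
      intro c hc hct x hx
      apply E.mem_T_of_comm hQ hTQ ((mem_normalizer_iff.mp hc x).mp (hTQ hx))
      have hxt := E.T_comm_t hx
      have h2 : c⁻¹ * E.t = E.t * c⁻¹ := by
        rw [inv_mul_eq_iff_eq_mul, ← mul_assoc, hct, mul_inv_cancel_right]
      calc c * x * c⁻¹ * E.t = c * x * (c⁻¹ * E.t) := by group
        _ = c * (x * E.t) * c⁻¹ := by rw [h2]; group
        _ = (c * E.t) * x * c⁻¹ := by rw [hxt]; group
        _ = E.t * (c * x * c⁻¹) := by rw [hct]; group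
    intro c hc hct
    rw [mem_normalizer_iff]
    intro x
    refine ⟨key c hc hct x, fun h => ?_⟩
    have hct' : c⁻¹ * E.t = E.t * c⁻¹ := by
      rw [inv_mul_eq_iff_eq_mul, ← mul_assoc, hct, mul_inv_cancel_right]
    have := key c⁻¹ (inv_mem hc) hct' _ h
    rw [inv_inv] at this
    have e : c⁻¹ * (c * x * c⁻¹) * c = x := by group
    rwa [e] at this
  -- `N1 = Y S`
  have hfac1 : ∀ g ∈ N1, ∃ y ∈ Y, ∃ x ∈ S, g = y * x := by
    intro g hg
    obtain ⟨c, hct, x, hx, rfl⟩ := hfac g hg.1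
    have hcN1 : c ∈ N1 := by
      have := mul_mem hg (inv_mem (hSN1 hx))
      rwa [mul_inv_cancel_right] at this
    obtain ⟨y, hyD, hyc, ⟨i, hi⟩, w, hw, h⟩ := E.exists_mul_T hct hcN1.2 (hnT c hcN1.1 hct)
    have hyN : y ∈ normalizer (Q : Set G) := by rw [hi]; exact pow_mem hcN1.1 i
    have hyQ := E.centralizes_of_le hQ hTQ (E.odd_of_mem_D hyD) (E.D_t y hyD) hyc hyN
    refine ⟨y, ⟨hyD, mem_centralizer_iff.mpr fun x hx => (hyQ x hx).symm⟩, w * x,
      mul_mem (hQS (hTQ hw)) hx, ?_⟩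
    rw [h, mul_assoc]
  -- Sylow subgroups of `N1`
  have hSyl : ∀ X : Subgroup G, IsPGroup 2 X → X ≤ N1 → Nat.card X = Nat.card S →
      ∃ y ∈ Y, ∀ x, x ∈ X ↔ y * x * y⁻¹ ∈ S := by
    intro X hX hXN hcard
    have : Fact (Nat.Prime 2) := ⟨Nat.prime_two⟩
    let S1 : Sylow 2 N1 :=
      { toSubgroup := S.subgroupOf N1
        isPGroup' := hS.comap_subtype
        is_maximal' := by
          intro R hR hle
          have h1 : IsPGroup 2 (R.map N1.subtype) := hR.map _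
          have h2 : S ≤ R.map N1.subtype := by
            intro x hx
            exact ⟨⟨x, hSN1 hx⟩, hle (mem_subgroupOf.mpr hx), rfl⟩
          have h3 : R.map N1.subtype ≤ normalizer (Q : Set G) := by
            rintro _ ⟨x, -, rfl⟩
            exact x.2.1
          have h4 := hmax _ h1 h3 h2
          apply le_antisymm
          · intro x hx
            rw [mem_subgroupOf, ← h4]
            exact ⟨x, hx, rfl⟩
          · exact hle }
    have hX1 : IsPGroup 2 (X.subgroupOf N1) := hX.comap_subtype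
    obtain ⟨P1, hP1⟩ := hX1.exists_le_sylow
    have hc1 : Nat.card (X.subgroupOf N1) = Nat.card X :=
      Nat.card_congr (Subgroup.subgroupOfEquivOfLe hXN).toEquiv
    have hc2 : Nat.card (S.subgroupOf N1) = Nat.card S :=
      Nat.card_congr (Subgroup.subgroupOfEquivOfLe hSN1).toEquiv
    have hc3 : Nat.card P1 = Nat.card (S.subgroupOf N1) := by
      exact Nat.card_congr (P1.equiv S1).toEquiv
    have hPX : (P1 : Subgroup N1) = X.subgroupOf N1 := by
      symm
      apply Subgroup.eq_of_le_of_card_ge hP1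
      rw [hc1, hcard, ← hc2]
      exact hc3.le
    obtain ⟨g, hg⟩ := MulAction.exists_smul_eq N1 P1 S1
    obtain ⟨y, hy, x, hx, hgyx⟩ := hfac1 (g : G)⁻¹ (inv_mem g.2)
    -- `g = x⁻¹ y⁻¹`
    have hg' : (g : G) = x⁻¹ * y⁻¹ := by rw [← mul_inv_rev, ← hgyx, inv_inv]
    refine ⟨y⁻¹, inv_mem hy, ?_⟩
    have hsm : ∀ w : N1, w ∈ (P1 : Subgroup N1) ↔ g * w * g⁻¹ ∈ (S1 : Subgroup N1) := by
      intro w
      rw [← hg, Sylow.smul_def, Sylow.pointwise_smul_def]
      rw [Subgroup.mem_pointwise_smul_iff_inv_smul_mem]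
      have : (MulAut.conj g)⁻¹ • (g * w * g⁻¹) = w := by
        show (MulAut.conj g)⁻¹ (g * w * g⁻¹) = w
        rw [← map_inv, MulAut.conj_apply]
        group
      rw [this]
    intro w
    constructor
    · intro hw
      have h1 := (hsm ⟨w, hXN hw⟩).mp (by rw [hPX]; exact mem_subgroupOf.mpr hw)
      have h2 : (g : G) * w * (g : G)⁻¹ ∈ S := mem_subgroupOf.mp h1
      rw [hg'] at h2
      have h3 := mul_mem (mul_mem hx h2) (inv_mem hx)
      have e : x * (x⁻¹ * y⁻¹ * w * (x⁻¹ * y⁻¹)⁻¹) * x⁻¹ = y⁻¹ * w * y⁻¹⁻¹ := by group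
      rwa [e] at h3
    · intro hw
      have hwN : w ∈ N1 := by
        have := mul_mem (mul_mem (hYN1 hy) (hSN1 hw)) (inv_mem (hYN1 hy))
        have e : y * (y⁻¹ * w * y⁻¹⁻¹) * y⁻¹ = w := by group
        rwa [e] at this
      have h3 := mul_mem (mul_mem (inv_mem hx) hw) hx
      have e : x⁻¹ * (y⁻¹ * w * y⁻¹⁻¹) * x = (g : G) * w * (g : G)⁻¹ := by rw [hg']; group
      rw [e] at h3
      have h1 := (hsm ⟨w, hwN⟩).mpr (mem_subgroupOf.mpr h3)
      rw [hPX] at h1
      exact mem_subgroupOf.mp h1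
  intro l
  obtain ⟨g, hgD, hgN, hgl⟩ := hD l
  have hX2 : IsPGroup 2 (S.map (MulAut.conj g).toMonoidHom) := hS.map _
  have hXN : S.map (MulAut.conj g).toMonoidHom ≤ N1 := by
    rintro _ ⟨x, hx, rfl⟩
    exact hconjN1 g hgN x (hSN1 hx)
  have hXc : Nat.card (S.map (MulAut.conj g).toMonoidHom) = Nat.card S :=
    (Nat.card_congr (S.equivMapOfInjective _ (MulAut.conj g).injective).toEquiv).symm
  obtain ⟨y, hy, hyS⟩ := hSyl _ hX2 hXN hXc
  refine ⟨y * g, mul_mem hy.1 hgD, mul_mem (hYN1 hy).1 hgN, ?_, ?_⟩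
  · rw [mem_normalizer_iff]
    intro x
    have h1 := hyS (g * x * g⁻¹)
    have h2 : g * x * g⁻¹ ∈ S.map (MulAut.conj g).toMonoidHom ↔ x ∈ S := by
      constructor
      · rintro ⟨w, hw, hwx⟩
        have : g * w * g⁻¹ = g * x * g⁻¹ := hwx
        rw [mul_left_inj, mul_right_inj] at this
        rw [← this]; exact hw
      · intro hx
        exact ⟨x, hx, rfl⟩
    rw [h2] at h1
    rw [h1]
    have : y * (g * x * g⁻¹) * y⁻¹ = y * g * x * (y * g)⁻¹ := by group
    rw [this]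
  · have hy1 : Acts m E.p y 1 := by
      rw [acts_one_iff]
      intro a b
      exact (mem_centralizer_iff.mp hy.2 _ (hTQ (E.p_mem_T a b))).symm
    have := E.acts_mul hy1 hgl
    rwa [one_mul] at this

end Env

end Cfsg.Agent.StdSz.Env
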